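/-
Package B of the McLaughlin characterisation: the groups `3³:A₄` and `3³:S₄` and their monomial characters.
-/
import Cfsg.Agent.McL.B0

set_option autoImplicit false
set_option linter.unusedSectionVars false

namespace CA.McL

open Cfsg CA.Chr Finset Multiplicative
open scoped ComplexConjugate

/-- product of monomial matrices (codes) -/
def mt (a b : ℕ) : ℕ := 0x823218a74292b639af84a33a5ab708c0229c864ad0a6bd8e8ce12ade9610061310e552169731ed94271b52f518440394c45a5487b5cc9c650bd6d45250b1040331487b56977358f946135a12a18022390a6bd2b67b1ae9c23242d4900c4121cc5a5ed563dcd84e514a96808860298e4adaf46b9ec8ca70290c74a14b080438c253ad2d76b1cf214e64256a0046284672a56f6635ee398855a909188019ca11bda957b98d31ca452d2810c2094e30b5eb473dac94233731afb52b7310a7100235212b9c6127b58ebd69639486184025a50a84a71639eda5af5218e500861429698ce506bdccaded429cc408c404ad486b98fada978ca13088034a90b2988763daea5eb684e3200c2242d2a21ca67b1cdbd2d59c251180415a149390c5735ecb56f4946701046052568314e4a56d784653635cf4254b214c700443ad2f68c2726b1ee4a16a290e608062b5e9594e1173d8d52d0931c8510c01bdab49ca307b9ac5a928398a418820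 >>> (5 * (24 * a + b)) % 32
/-- inverse -/
def iv (a : ℕ) : ℕ := 0xbd6d48ca7073dac314e44ad4818820 >>> (5 * a) % 32
/-- permutation part -/
def pk (a i : ℕ) : ℕ := 0x861861186186618618492492249249924924 >>> (2 * (3 * a + i)) % 4
/-- sign part -/
def sk (a i : ℕ) : ℕ := 0x9595aa9595aa9595aa6a6a556a6a556a6a55 >>> (2 * (3 * a + i)) % 4
/-- action on vector codes -/
def ac (a c : ℕ) : ℕ := 0x8b9706a9ec4eaf4cda78ac90511c8130c17d52d99d7127456d8298f4950221c23303369eaf4c56506aa2e5bd8939028288c30360a7456c7a6d99df54ae244384a810cc08e90eb9574143276d88a985f8332a34c8177175145162b349981e6a0d583c3cd2483303d9a49a83a8a2ee2d162c3cd560e49036c4864ea985d72c7485d04ca8df8326408c1face107339acbdaa520d6a4d27210417b55cd61483d671183d07352725a9220833ac422f3a0d6bd5ae610a39d24a5a422035ccb5ea428e117e7583a0ca5a67490440b666d828870df547456540ab8931e9198106ab3699c818b97abd10513d89c5646181d15df542a04d82ad9990e163d35c486606af48b96828b369c1aa39038ac9ec49860b3497716ac1e607d451879a6a0d16292410c9e3a43f066d88eb95951aa615d049901d72b6c465471d22193bf065d04a9853206a28cc0f879aee2d9a4ab07458a6a0c920b5eb9d6274935cc845ea5a48519d06088108bdae62969ceb16bd67491d0621461101cd6460f5a937b5759c5272290683984106b38bdab49ca307b9ac5a928398a418820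 >>> (5 * (27 * a + c)) % 32
/-- sum of vector codes -/
def adc (a c : ℕ) : ℕ := 0xd639495c1f120ca1008e645ab79ca99c698e6a56a7c6032900209907aded2a4f1acb9ac5a93183ca41882041cd7b569396b38525707c5ac704023990419672a671ab56e95a9f1831cd0082641c6524a93c6b35bd96a4c60f735820810731483a4e5ace2f6ac1f16b1ca4ace64106508059c6ad5bce547c60c7352b51907194801071acd6f69527183dcd62d4941cc520c4106b38bdab49c8832840239916ade72a671a6b1ca4ae0f88ca40082641eb7b4a93c6b2c7352b53e30290620810735ed5a4e5ace1cd62d498c1e1008e6410659ca99c6ad5ba92b83e2d638020990719492a4f1acd6f64ad4f8c18e6882041cc520e9396b38bdaab526307b9ac39904194201671ab56f39520f8b58e5256641c6520041c6b35bda549be30639a95a907314831041ace2f6ad2728c1ee6b16a4dab79ca99c69ac7292b83e241942011cc8aded2a4f1acb1cd4ad4f8c06520041320f7b569396b387358b52630794831040839a72a671ab56ea4ae0f8b58e08047320832ca93c6b35bd92b53e30639a0104c838ca4a4e5ace2f6aad498c1ee6b041020e629079c6ad5bce5483e2d6394959cc820ca100b1acd6f69526f8c18e6a56a320e3290020eb38bdab49ca307b9ac5a928398a418820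 >>> (5 * (27 * a + c)) % 32
/-- dot product of vector codes -/
def dtc (a c : ℕ) : ℕ := 0x66216211a11984a426425225292a015015a95a806068616061a162448926449226402a55502aa95021861186198618249252492924915555aaaa800006211866218466242524a42494a4015aaa01556a0216066068468582644a448948991502a02a56a5401861a1861618612492249264924aaaa955550000211988466211982529094a4252915a8056a015a801a16068581a1612264489912264a9502a540a95018618618618618924924924924900000000000000 >>> (2 * (27 * a + c)) % 4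

/-- bounded quantifier -/
def alN (n : ℕ) (p : ℕ → Bool) : Bool := (List.range n).all p

theorem alN_iff {n : ℕ} {p : ℕ → Bool} : alN n p = true ↔ ∀ i < n, p i = true := by simp [alN]

/-- decoding -/
def vc (c : ℕ) : Fin 3 → ZMod 3 := fun i => ((c / 3 ^ i.val % 3 : ℕ) : ZMod 3)
/-- coding -/
def cdv (x : Fin 3 → ZMod 3) : ℕ := (x 0).val + 3 * (x 1).val + 9 * (x 2).val
/-- the monomial map with code `k` -/
def mo (k : ℕ) (x : Fin 3 → ZMod 3) : Fin 3 → ZMod 3 :=
  fun i => (sk k i : ZMod 3) * x ⟨pk k i % 3, Nat.mod_lt _ (by norm_num)⟩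

theorem vc_cdv : ∀ x, vc (cdv x) = x := by decide +kernel
theorem cdv_lt : ∀ x, cdv x < 27 := by decide +kernel
theorem cdv_vc : ∀ c < 27, cdv (vc c) = c := by decide +kernel
theorem cdv_add' : ∀ a < 27, ∀ c < 27, cdv (vc a + vc c) = adc a c := by decide +kernel
theorem cdv_mo' : ∀ a < 24, ∀ c < 27, cdv (mo a (vc c)) = ac a c := by decide +kernel
theorem cdv_add (x y : Fin 3 → ZMod 3) : cdv (x + y) = adc (cdv x) (cdv y) := by
  rw [← cdv_add' _ (cdv_lt x) _ (cdv_lt y), vc_cdv, vc_cdv]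
theorem cdv_mo {k : ℕ} (hk : k < 24) (x : Fin 3 → ZMod 3) : cdv (mo k x) = ac k (cdv x) := by
  rw [← cdv_mo' _ hk _ (cdv_lt x), vc_cdv]
theorem cdv_inj {x y : Fin 3 → ZMod 3} (h : cdv x = cdv y) : x = y := by rw [← vc_cdv x, h, vc_cdv]

theorem tab1 : alN 24 (fun a => iv a < 24 && (12 ≤ a || iv a < 12) && mt (iv a) a == 0 && mt 0 a == a && ac a 0 == 0 &&
    alN 24 fun b => mt a b < 24 && (12 ≤ a || 12 ≤ b || mt a b < 12) &&
      (alN 24 fun c => mt (mt a b) c == mt a (mt b c)) && alN 27 fun c => ac (mt a b) c == ac a (ac b c)) = true := by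
  decide +kernel

theorem tab2 : alN 27 (fun a => ac 0 a == a && adc 0 a == a && adc a 0 == a &&
    alN 27 fun b => alN 27 fun c => dtc a (adc b c) == (dtc a b + dtc a c) % 3) = true := by
  decide +kernel

variable {n : ℕ} [hn : Fact (n = 12 ∨ n = 24)]

/-- `A₄` or `S₄` -/
def KK (n : ℕ) : Type := Fin n

instance : Fintype (KK n) := inferInstanceAs (Fintype (Fin n))

theorem lt24 (a : KK n) : a.val < 24 := by have := a.2; have := hn.out; omega

theorem tb1 {a : ℕ} (ha : a < 24) : (iv a < 24 ∧ (12 ≤ a ∨ iv a < 12) ∧ mt (iv a) a = 0 ∧ mt 0 a = a ∧ ac a 0 = 0) ∧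
    ∀ b < 24, mt a b < 24 ∧ (12 ≤ a ∨ 12 ≤ b ∨ mt a b < 12) ∧ (∀ c < 24, mt (mt a b) c = mt a (mt b c)) ∧
      ∀ c < 27, ac (mt a b) c = ac a (ac b c) := by
  have := alN_iff.1 tab1 a ha
  simpa only [Bool.and_eq_true, Bool.or_eq_true, decide_eq_true_eq, beq_iff_eq, alN_iff, and_assoc, or_assoc] using this

theorem tb2 {a : ℕ} (ha : a < 27) : ac 0 a = a ∧ adc 0 a = a ∧ adc a 0 = a ∧
    ∀ b < 27, ∀ c < 27, dtc a (adc b c) = (dtc a b + dtc a c) % 3 := by
  have := alN_iff.1 tab2 a ha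
  simpa only [Bool.and_eq_true, beq_iff_eq, alN_iff, and_assoc] using this

instance : Mul (KK n) := ⟨fun a b => ⟨mt a.val b.val, by
  have := (tb1 (lt24 a)).2 _ (lt24 b); have := a.2; have := b.2; have := hn.out; omega⟩⟩
instance : One (KK n) := ⟨⟨0, by have := hn.out; omega⟩⟩
instance : Inv (KK n) := ⟨fun a => ⟨iv a.val, by have := (tb1 (lt24 a)).1; have := a.2; have := hn.out; omega⟩⟩
instance : Group (KK n) := Group.ofLeftAxioms (fun a b c => Fin.ext (((tb1 (lt24 a)).2 _ (lt24 b)).2.2.1 _ (lt24 c)))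
  (fun a => Fin.ext (tb1 (lt24 a)).1.2.2.2.1) fun a => Fin.ext (tb1 (lt24 a)).1.2.2.1

/-- `F₃³` -/
abbrev J0 := Multiplicative (Fin 3 → ZMod 3)

theorem mo_mt {a b : ℕ} (ha : a < 24) (hb : b < 24) (x : Fin 3 → ZMod 3) : mo (mt a b) x = mo a (mo b x) :=
  cdv_inj (by rw [cdv_mo ((tb1 ha).2 _ hb).1, cdv_mo ha, cdv_mo hb]; exact ((tb1 ha).2 _ hb).2.2.2 _ (cdv_lt _))

theorem mo_add (a : ℕ) (x y : Fin 3 → ZMod 3) : mo a (x + y) = mo a x + mo a y := funext fun _ => mul_add _ _ _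

instance : MulDistribMulAction (KK n) J0 where
  smul k x := ofAdd (mo k.val x.toAdd)
  one_smul x := toAdd.injective (cdv_inj ((cdv_mo (k := 0) (by norm_num) _).trans (tb2 (cdv_lt _)).1))
  mul_smul a b x := toAdd.injective (mo_mt (lt24 a) (lt24 b) _)
  smul_mul k x y := toAdd.injective (mo_add _ _ _)
  smul_one k := toAdd.injective (funext fun i => mul_zero (sk k.val i : ZMod 3))

theorem smul_J0 (k : KK n) (x : J0) : k • x = ofAdd (mo k.val x.toAdd) := rfl

/-- `3³:A₄` or `3³:S₄` -/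
abbrev Ga (n : ℕ) [Fact (n = 12 ∨ n = 24)] := J0 ⋊[MulDistribMulAction.toMulAut (KK n) J0] KK n

instance : Fintype (Ga n) := Fintype.ofEquiv _ SemidirectProduct.equivProd.symm

/-- matrix code -/
def gk (g : Ga n) : ℕ := g.right.val
/-- vector code -/
def gc (g : Ga n) : ℕ := cdv g.left.toAdd
/-- decoding -/
def el (k : KK n) (c : ℕ) : Ga n := ⟨ofAdd (vc c), k⟩

theorem gk_lt (g : Ga n) : gk g < n := g.right.2
theorem gk_lt' (g : Ga n) : gk g < 24 := lt24 _
theorem gc_lt (g : Ga n) : gc g < 27 := cdv_lt _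
theorem gk_mul (g h : Ga n) : gk (g * h) = mt (gk g) (gk h) := rfl
theorem gk_inv (g : Ga n) : gk g⁻¹ = iv (gk g) := rfl
theorem gc_mul (g h : Ga n) : gc (g * h) = adc (gc g) (ac (gk g) (gc h)) := by
  rw [gc, gc, gc, ← cdv_mo (gk_lt' g), ← cdv_add, SemidirectProduct.mul_left, MulDistribMulAction.toMulAut_apply,
    MulDistribMulAction.toMulEquiv_apply, smul_J0]; rfl
theorem g_ext {g h : Ga n} (h1 : gk g = gk h) (h2 : gc g = gc h) : g = h :=
  SemidirectProduct.ext (toAdd.injective (cdv_inj h2)) (Fin.ext h1)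
theorem gc_el (k : KK n) {c : ℕ} (hc : c < 27) : gc (el k c) = c := cdv_vc c hc
theorem gc_inr (k : KK n) : gc (SemidirectProduct.inr k : Ga n) = 0 := rfl

theorem sum_Ga {M : Type*} [AddCommMonoid M] (F : ℕ → ℕ → M) :
    ∑ g : Ga n, F (gk g) (gc g) = ∑ k ∈ range n, ∑ c ∈ range 27, F k c := by
  rw [← Equiv.sum_comp SemidirectProduct.equivProd.symm, Fintype.sum_prod_type, sum_comm,
    ← Fin.sum_univ_eq_sum_range (fun k => ∑ c ∈ range 27, F k c)]
  refine sum_congr rfl fun k _ => ?_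
  exact sum_nbij' (fun x => cdv x.toAdd) (fun c => ofAdd (vc c)) (fun x _ => mem_range.2 (cdv_lt _))
    (fun _ _ => mem_univ _) (fun x _ => congrArg ofAdd (vc_cdv _)) (fun c hc => cdv_vc c (mem_range.1 hc)) fun _ _ => rfl

theorem card_Ga : Nat.card (Ga n) = 27 * n := by
  have := sum_Ga (n := n) fun _ _ => (1 : ℕ)
  simpa [mul_comm] using this

/-- `ℤ[ζ₁₂]` -/
structure Z4 where
  /-- coefficient -/
  a : ℤ
  /-- coefficient -/
  b : ℤ
  /-- coefficient -/
  c : ℤ
  /-- coefficient -/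
  d : ℤ
  deriving DecidableEq

/-- a primitive twelfth root of unity -/
noncomputable def zt : ℂ := ⟨√3 / 2, 1 / 2⟩

theorem zt4 : zt ^ 4 = zt ^ 2 - 1 := by
  have h : √3 * √3 = 3 := Real.mul_self_sqrt (by norm_num)
  have : zt ^ 2 = ⟨1 / 2, √3 / 2⟩ := by
    apply Complex.ext <;> simp [zt, pow_two] <;> linarith
  rw [show zt ^ 4 = (zt ^ 2) ^ 2 by ring, this]
  apply Complex.ext <;> simp [pow_two] <;> linarith

theorem zt_conj : conj zt = zt - zt ^ 3 := by
  have h : √3 * √3 = 3 := Real.mul_self_sqrt (by norm_num)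
  have : zt * conj zt = 1 := by
    apply Complex.ext <;> simp [zt] <;> linarith
  linear_combination (zt - zt ^ 3) * this + conj zt * zt4

theorem zt12 : zt ^ 12 = 1 := by linear_combination (zt ^ 8 + zt ^ 6 - zt ^ 2 - 1) * zt4

namespace Z4
/-- value -/
noncomputable def ev (x : Z4) : ℂ := x.a + x.b * zt + x.c * zt ^ 2 + x.d * zt ^ 3
/-- sum -/
def ad (x y : Z4) : Z4 := ⟨x.a + y.a, x.b + y.b, x.c + y.c, x.d + y.d⟩
/-- multiple -/
def sm (m : ℤ) (x : Z4) : Z4 := ⟨m * x.a, m * x.b, m * x.c, m * x.d⟩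
/-- `x * conj y` -/
def mc (x y : Z4) : Z4 :=
  ⟨x.a * y.a + x.a * y.c + x.b * y.b + x.b * y.d + x.c * y.c + x.d * y.d,
    x.a * y.b + x.b * y.a + x.b * y.c + x.c * y.b + x.c * y.d + x.d * y.c,
    x.c * y.a + x.d * y.b - x.a * y.c - x.b * y.d, x.d * y.a - x.a * y.b - x.a * y.d - x.b * y.c - x.c * y.d⟩
/-- integers -/
def nt (m : ℤ) : Z4 := ⟨m, 0, 0, 0⟩
/-- powers of `ζ` -/
def pw (e : ℕ) : Z4 := [⟨1, 0, 0, 0⟩, ⟨0, 1, 0, 0⟩, ⟨0, 0, 1, 0⟩, ⟨0, 0, 0, 1⟩, ⟨-1, 0, 1, 0⟩, ⟨0, -1, 0, 1⟩, ⟨-1, 0, 0, 0⟩,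
  ⟨0, -1, 0, 0⟩, ⟨0, 0, -1, 0⟩, ⟨0, 0, 0, -1⟩, ⟨1, 0, -1, 0⟩, ⟨0, 1, 0, -1⟩].getD (e % 12) ⟨0, 0, 0, 0⟩
/-- sums -/
def su {ι : Type} (l : List ι) (f : ι → Z4) : Z4 := l.foldr (fun i s => ad (f i) s) (nt 0)

theorem ev_ad (x y : Z4) : ev (ad x y) = ev x + ev y := by simp only [ev, ad]; push_cast; ring
theorem ev_sm (m : ℤ) (x : Z4) : ev (sm m x) = m * ev x := by simp only [ev, sm]; push_cast; ring
theorem ev_nt (m : ℤ) : ev (nt m) = m := by simp [ev, nt]
theorem ev_mc (x y : Z4) : ev (mc x y) = ev x * conj (ev y) := by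
  simp only [ev, mc, map_add, map_mul, map_pow, map_intCast, zt_conj]
  have e2 : (zt - zt ^ 3) ^ 2 = 1 - zt ^ 2 := by linear_combination (zt ^ 2 - 1) * zt4
  have e3 : (zt - zt ^ 3) ^ 3 = - zt ^ 3 := by linear_combination (2 * zt ^ 3 - zt ^ 5) * zt4
  rw [e2, e3]
  push_cast
  linear_combination (-((x.d : ℂ) * (-y.b - y.d) * (zt ^ 2 + 1) + (x.c * (-y.b - y.d) - x.d * y.c) * zt +
    (x.b * (-y.b - y.d) - x.c * y.c + x.d * y.b))) * zt4
theorem ev_pw (e : ℕ) : ev (pw e) = zt ^ e := by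
  rw [pow_eq_pow_mod e zt12, pw]
  have := Nat.mod_lt e (show 0 < 12 by norm_num)
  generalize e % 12 = r at this
  interval_cases r <;> simp [ev]
  · linear_combination -zt4
  · linear_combination -zt * zt4
  · linear_combination -(zt ^ 2 + 1) * zt4
  · linear_combination -zt * (zt ^ 2 + 1) * zt4
  · linear_combination -zt ^ 2 * (zt ^ 2 + 1) * zt4
  · linear_combination -zt ^ 3 * (zt ^ 2 + 1) * zt4
  · linear_combination -(zt ^ 6 + zt ^ 4 - 1) * zt4
  · linear_combination -zt * (zt ^ 6 + zt ^ 4 - 1) * zt4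
theorem ev_su {ι : Type} (l : List ι) (f : ι → Z4) : ev (su l f) = (l.map fun i => ev (f i)).sum := by
  induction l with
  | nil => simp [su, ev_nt]
  | cons i l ih => rw [List.map_cons, List.sum_cons, ← ih, ← ev_ad]; rfl
end Z4

open Z4

/-- class index -/
def cl (CT k c : ℕ) : ℕ := CT >>> (4 * (27 * k + c)) % 16

/-- the function on the group given by a function on class indices -/
noncomputable def cf (n : ℕ) [Fact (n = 12 ∨ n = 24)] (CT : ℕ) (F : ℕ → Z4) : Ga n → ℂ :=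
  fun g => ev (F (cl CT (gk g) (gc g)))

/-- the check that `F` is induced from the linear character `(v, mm)` of `3³ : tm` -/
def chk (n CT tm v mm t : ℕ) (F : ℕ → Z4) : Bool :=
  tm.testBit 0 && t != 0 && v < 27 && ((List.range n).filter tm.testBit).length == t &&
  alN n (fun a => !tm.testBit a || (tm.testBit (iv a) && alN 27 (fun c => dtc v (ac a c) == dtc v c) &&
    alN n fun b => !tm.testBit b || (tm.testBit (mt a b) &&
      (mm >>> (4 * mt a b) % 16) % 12 == (mm >>> (4 * a) % 16 + mm >>> (4 * b) % 16) % 12))) &&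
  alN n fun k => (fun rs : List (ℕ × ℕ) => alN 27 fun c => sm t (F (cl CT k c)) == su rs fun p => pw (4 * dtc v (ac p.1 c) + p.2))
    (((List.range n).filter fun r => tm.testBit (mt (mt (iv r) k) r)).map
      fun r => (iv r, mm >>> (4 * mt (mt (iv r) k) r) % 16))

theorem lsum_range {M : Type*} [AddCommMonoid M] (m : ℕ) (f : ℕ → M) :
    ((List.range m).map f).sum = ∑ i ∈ range m, f i := rfl

theorem lsum_filter {M : Type*} [AddCommMonoid M] (m : ℕ) (p : ℕ → Bool) (f : ℕ → M) :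
    (((List.range m).filter p).map f).sum = ∑ i ∈ range m, if p i = true then f i else 0 := by
  rw [← lsum_range]
  induction List.range m with
  | nil => rfl
  | cons a l ih => by_cases h : p a = true <;> simp [h, ih]

theorem chk_ZIrr {CT tm v mm t : ℕ} {F : ℕ → Z4} (h : chk n CT tm v mm t F = true) : cf n CT F ∈ ZIrr (Ga n) := by
  classical
  simp only [chk, Bool.and_eq_true, Bool.or_eq_true, decide_eq_true_eq, beq_iff_eq, alN_iff, bne_iff_ne,
    Bool.not_eq_true', ← Bool.not_eq_true, ← imp_iff_not_or] at h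
  obtain ⟨⟨⟨⟨⟨h0, t0⟩, v27⟩, ht⟩, hT⟩, hF⟩ := h
  let T : Subgroup (Ga n) :=
    { carrier := {g | tm.testBit (gk g) = true}
      one_mem' := h0
      mul_mem' := fun {a b} ha hb => ((hT _ (gk_lt a) ha).2 _ (gk_lt b) hb).1
      inv_mem' := fun {a} ha => (hT _ (gk_lt a) ha).1.1 }
  let E : Ga n → ℕ := fun g => 4 * dtc v (gc g) + mm >>> (4 * gk g) % 16
  let u : ℂˣ := Units.mkOfMulEqOne zt (zt ^ 11) (by rw [← zt12]; ring)
  have u12 : u ^ 12 = 1 := Units.ext zt12
  let l : T →* ℂˣ := MonoidHom.mk' (fun g => u ^ E g) fun a b => by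
    rw [← pow_add, pow_eq_pow_mod _ u12, pow_eq_pow_mod (_ + _) u12]
    congr 1
    have k1 := ((hT _ (gk_lt a.1) a.2).2 _ (gk_lt b.1) b.2).2
    have k2 := (hT _ (gk_lt a.1) a.2).1.2 _ (gc_lt b.1)
    have k3 := (tb2 v27).2.2.2 _ (gc_lt a.1) _ (show ac (gk a.1) (gc b.1) < 27 by
      rw [gc, ← cdv_mo (gk_lt' a.1)]; exact cdv_lt _)
    simp only [E, Subgroup.coe_mul, gk_mul, gc_mul]
    omega
  have cT : Nat.card T = 27 * t := by
    have := sum_Ga (n := n) fun k _ => if tm.testBit k = true then 1 else 0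
    rw [Nat.card_eq_fintype_card, Fintype.card_subtype, card_filter]
    refine Eq.trans (by convert this using 2 with g; exact if_congr Iff.rfl rfl rfl) (?_ : ∑ k ∈ range n, ∑ _c ∈ range 27,
      (if tm.testBit k = true then 1 else 0) = _)
    simp only [sum_const, card_range, smul_eq_mul, ← mul_sum]
    rw [← lsum_filter, ← ht]; simp
  convert ZIrr.ind (lin_mem_ZIrr l) T.subtype using 1
  ext g
  have key : ∀ x : Ga n, Function.extend T.subtype (lin l) (0 : Ga n → ℂ) (x⁻¹ * g * x) =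
      if tm.testBit (mt (mt (iv (gk x)) (gk g)) (gk x)) = true then
        zt ^ (4 * dtc v (ac (iv (gk x)) (gc g)) + mm >>> (4 * mt (mt (iv (gk x)) (gk g)) (gk x)) % 16) else 0 := fun x => by
    split_ifs with c
    · let r : Ga n := SemidirectProduct.inr x.right
      have m1 : r⁻¹ * g * r ∈ T := c
      have m2 : r⁻¹ * x ∈ T := by
        change tm.testBit (mt (iv (gk x)) (gk x)) = true
        rw [(tb1 (gk_lt' x)).1.2.2.1]; exact h0
      have := T.subtype_injective.extend_apply (lin l) (0 : Ga n → ℂ) (⟨_, m2⟩⁻¹ * ⟨_, m1⟩ * ⟨_, m2⟩)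
      rw [CF_conj' (lin_mem_CF l)] at this
      rw [show x⁻¹ * g * x = (r⁻¹ * x)⁻¹ * (r⁻¹ * g * r) * (r⁻¹ * x) by group]
      refine this.trans ?_
      have e : gc (r⁻¹ * g * r) = ac (iv (gk x)) (gc g) := by
        have l1 : ac (iv (gk x)) (gc g) < 27 := by rw [gc, ← cdv_mo (tb1 (gk_lt' x)).1.1]; exact cdv_lt _
        rw [gc_mul, gc_mul, gc_inr, (tb1 (gk_lt' _)).1.2.2.2.2, ← map_inv, gc_inr]
        change adc (adc 0 (ac (iv (gk x)) (gc g))) 0 = _
        rw [(tb2 l1).2.1, (tb2 l1).2.2.1]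
      change zt ^ (4 * dtc v (gc (r⁻¹ * g * r)) + _) = _
      rw [e]; rfl
    · rw [Function.extend_apply' _ _ _ (by rintro ⟨y, hy⟩; exact c (show tm.testBit (gk (x⁻¹ * g * x)) = true from hy ▸ y.2))]
      rfl
  rw [ind_apply_inj T.subtype_injective, sum_congr rfl fun x _ => key x, sum_Ga fun r _ =>
    if tm.testBit (mt (mt (iv r) (gk g)) r) = true then
      zt ^ (4 * dtc v (ac (iv r) (gc g)) + mm >>> (4 * mt (mt (iv r) (gk g)) r) % 16) else 0, cT]
  have := congrArg ev (hF _ (gk_lt g) _ (gc_lt g))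
  rw [ev_sm, ev_su, List.map_map] at this
  simp only [sum_const, card_range, nsmul_eq_mul, ← mul_sum]
  have t0' : (t : ℂ) ≠ 0 := by exact_mod_cast t0
  rw [eq_comm, inv_mul_eq_iff_eq_mul₀ (by simpa using t0)]
  push_cast at this ⊢
  rw [mul_assoc, cf, this, lsum_filter]
  simp only [Function.comp_def, ev_pw]

end CA.McL

theorem CA.realizeEqns_McL_B3 : True := by
  have := @CA.McL.vc.eq_1
  have := @CA.McL.vc.eq_def
  have := @CA.McL.vc.congr_simp
  have := @CA.McL.Z4.mc.eq_1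
  have := @CA.McL.Z4.mc.eq_def
  have := @CA.McL.Z4.mc.congr_simp
  have := @CA.McL.Z4.sm.eq_1
  have := @CA.McL.Z4.sm.eq_def
  have := @CA.McL.Z4.sm.congr_simp
  have := @CA.McL.gk.eq_1
  have := @CA.McL.gk.eq_def
  have := @CA.McL.gk.congr_simp
  have := @CA.McL.ac.eq_1
  have := @CA.McL.ac.eq_def
  have := @CA.McL.ac.congr_simp
  have := @CA.McL.adc.eq_1
  have := @CA.McL.adc.eq_def
  have := @CA.McL.adc.congr_simp
  have := @CA.McL.Z4.ev.eq_1
  have := @CA.McL.Z4.ev.eq_def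
  have := @CA.McL.Z4.ev.congr_simp
  have := @CA.McL.sk.eq_1
  have := @CA.McL.sk.eq_def
  have := @CA.McL.sk.congr_simp
  have := @CA.McL.zt.eq_1
  have := @CA.McL.zt.eq_def
  have := @CA.McL.zt.congr_simp
  have := @CA.McL.el.eq_1
  have := @CA.McL.el.eq_def
  have := @CA.McL.el.congr_simp
  have := @CA.McL.iv.eq_1
  have := @CA.McL.iv.eq_def
  have := @CA.McL.iv.congr_simp
  have := @CA.McL.dtc.eq_1
  have := @CA.McL.dtc.eq_def
  have := @CA.McL.dtc.congr_simp
  have := @CA.McL.Ga.eq_1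
  have := @CA.McL.Ga.eq_def
  have := @CA.McL.Ga.congr_simp
  have := @CA.McL.mo.eq_1
  have := @CA.McL.mo.eq_def
  have := @CA.McL.mo.congr_simp
  have := @CA.McL.gc.eq_1
  have := @CA.McL.gc.eq_def
  have := @CA.McL.gc.congr_simp
  have := @CA.McL.Z4.su.eq_1
  have := @CA.McL.Z4.su.eq_def
  have := @CA.McL.Z4.su.congr_simp
  have := @CA.McL.Z4.ad.eq_1
  have := @CA.McL.Z4.ad.eq_def
  have := @CA.McL.Z4.ad.congr_simp
  have := @CA.McL.cl.eq_1
  have := @CA.McL.cl.eq_def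
  have := @CA.McL.cl.congr_simp
  have := @CA.McL.pk.eq_1
  have := @CA.McL.pk.eq_def
  have := @CA.McL.pk.congr_simp
  have := @CA.McL.Z4.pw.eq_1
  have := @CA.McL.Z4.pw.eq_def
  have := @CA.McL.Z4.pw.congr_simp
  have := @CA.McL.cdv.eq_1
  have := @CA.McL.cdv.eq_def
  have := @CA.McL.cdv.congr_simp
  have := @CA.McL.mt.eq_1
  have := @CA.McL.mt.eq_def
  have := @CA.McL.mt.congr_simp
  have := @CA.McL.KK.eq_1
  have := @CA.McL.KK.eq_def
  have := @CA.McL.KK.congr_simp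
  have := @CA.McL.Z4.nt.eq_1
  have := @CA.McL.Z4.nt.eq_def
  have := @CA.McL.Z4.nt.congr_simp
  have := @CA.McL.chk.eq_1
  have := @CA.McL.chk.eq_def
  have := @CA.McL.chk.congr_simp
  have := @CA.McL.J0.eq_1
  have := @CA.McL.J0.eq_def
  have := @CA.McL.J0.congr_simp
  have := @CA.McL.instDecidableEqZ4.decEq.eq_1
  have := @CA.McL.instDecidableEqZ4.decEq.eq_def
  have := @CA.McL.instDecidableEqZ4.decEq.congr_simp
  have := @CA.McL.alN.eq_1
  have := @CA.McL.alN.eq_def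
  have := @CA.McL.alN.congr_simp
  have := @CA.McL.cf.eq_1
  have := @CA.McL.cf.eq_def
  have := @CA.McL.cf.congr_simp
  trivial
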