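/-
Package B of the McLaughlin characterisation: the character tables of `3³:A₄` and `3³:S₄`.
-/
import Cfsg.Agent.McL.B5

set_option autoImplicit false

namespace CA.McL

open Cfsg CA.Chr CA.FG Z4

/-- table lookup -/
def tbl (l : List Z4) (c : ℕ) : Z4 := l.getD c (nt 0)

instance f12 : Fact (12 = 12 ∨ 12 = 24) := ⟨Or.inl rfl⟩
instance f24 : Fact (24 = 12 ∨ 24 = 24) := ⟨Or.inr rfl⟩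

/-- class map -/
def ct12 : ℕ := 0xbaccbaacbcbaacbbacacbbaccbabcacababcabcbcacabcababcbcabcaabccabcabbcaabcabccabbcaacbcbabaccbabacacbbacacbcba897789978978897789789978897879987798987798879798879987897978789789897978978789897798987879987879798879798987666666666666666666555555555666666555666666555666666555665665665665665665665665665432342221342432221221221110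
/-- class sizes -/
def sz12 (c : ℕ) : ℕ := [1, 6, 12, 4, 4, 27, 54, 36, 36, 36, 36, 36, 36].getD c 0
/-- irreducible characters -/
def ch12 : List (ℕ × ℕ × ℕ × ℕ × List Z4) := [
  (4095, 0, 0x0, 12, [⟨1, 0, 0, 0⟩, ⟨1, 0, 0, 0⟩, ⟨1, 0, 0, 0⟩, ⟨1, 0, 0, 0⟩, ⟨1, 0, 0, 0⟩, ⟨1, 0, 0, 0⟩, ⟨1, 0, 0, 0⟩, ⟨1, 0, 0, 0⟩, ⟨1, 0, 0, 0⟩, ⟨1, 0, 0, 0⟩, ⟨1, 0, 0, 0⟩, ⟨1, 0, 0, 0⟩, ⟨1, 0, 0, 0⟩]),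
  (4095, 0, 0x888844440000, 12, [⟨1, 0, 0, 0⟩, ⟨1, 0, 0, 0⟩, ⟨1, 0, 0, 0⟩, ⟨1, 0, 0, 0⟩, ⟨1, 0, 0, 0⟩, ⟨1, 0, 0, 0⟩, ⟨1, 0, 0, 0⟩, ⟨-1, 0, 1, 0⟩, ⟨-1, 0, 1, 0⟩, ⟨-1, 0, 1, 0⟩, ⟨0, 0, -1, 0⟩, ⟨0, 0, -1, 0⟩, ⟨0, 0, -1, 0⟩]),
  (4095, 0, 0x444488880000, 12, [⟨1, 0, 0, 0⟩, ⟨1, 0, 0, 0⟩, ⟨1, 0, 0, 0⟩, ⟨1, 0, 0, 0⟩, ⟨1, 0, 0, 0⟩, ⟨1, 0, 0, 0⟩, ⟨1, 0, 0, 0⟩, ⟨0, 0, -1, 0⟩, ⟨0, 0, -1, 0⟩, ⟨0, 0, -1, 0⟩, ⟨-1, 0, 1, 0⟩, ⟨-1, 0, 1, 0⟩, ⟨-1, 0, 1, 0⟩]),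
  (15, 0, 0x6600, 4, [⟨3, 0, 0, 0⟩, ⟨3, 0, 0, 0⟩, ⟨3, 0, 0, 0⟩, ⟨3, 0, 0, 0⟩, ⟨3, 0, 0, 0⟩, ⟨-1, 0, 0, 0⟩, ⟨-1, 0, 0, 0⟩, ⟨0, 0, 0, 0⟩, ⟨0, 0, 0, 0⟩, ⟨0, 0, 0, 0⟩, ⟨0, 0, 0, 0⟩, ⟨0, 0, 0, 0⟩, ⟨0, 0, 0, 0⟩]),
  (3, 1, 0x0, 2, [⟨6, 0, 0, 0⟩, ⟨3, 0, 0, 0⟩, ⟨0, 0, 0, 0⟩, ⟨-3, 0, 0, 0⟩, ⟨-3, 0, 0, 0⟩, ⟨2, 0, 0, 0⟩, ⟨-1, 0, 0, 0⟩, ⟨0, 0, 0, 0⟩, ⟨0, 0, 0, 0⟩, ⟨0, 0, 0, 0⟩, ⟨0, 0, 0, 0⟩, ⟨0, 0, 0, 0⟩, ⟨0, 0, 0, 0⟩]),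
  (3, 1, 0x60, 2, [⟨6, 0, 0, 0⟩, ⟨3, 0, 0, 0⟩, ⟨0, 0, 0, 0⟩, ⟨-3, 0, 0, 0⟩, ⟨-3, 0, 0, 0⟩, ⟨-2, 0, 0, 0⟩, ⟨1, 0, 0, 0⟩, ⟨0, 0, 0, 0⟩, ⟨0, 0, 0, 0⟩, ⟨0, 0, 0, 0⟩, ⟨0, 0, 0, 0⟩, ⟨0, 0, 0, 0⟩, ⟨0, 0, 0, 0⟩]),
  (1, 4, 0x0, 1, [⟨12, 0, 0, 0⟩, ⟨0, 0, 0, 0⟩, ⟨-3, 0, 0, 0⟩, ⟨3, 0, 0, 0⟩, ⟨3, 0, 0, 0⟩, ⟨0, 0, 0, 0⟩, ⟨0, 0, 0, 0⟩, ⟨0, 0, 0, 0⟩, ⟨0, 0, 0, 0⟩, ⟨0, 0, 0, 0⟩, ⟨0, 0, 0, 0⟩, ⟨0, 0, 0, 0⟩, ⟨0, 0, 0, 0⟩]),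
  (273, 13, 0x0, 3, [⟨4, 0, 0, 0⟩, ⟨-2, 0, 0, 0⟩, ⟨1, 0, 0, 0⟩, ⟨1, 0, -3, 0⟩, ⟨-2, 0, 3, 0⟩, ⟨0, 0, 0, 0⟩, ⟨0, 0, 0, 0⟩, ⟨1, 0, 0, 0⟩, ⟨-1, 0, 1, 0⟩, ⟨0, 0, -1, 0⟩, ⟨1, 0, 0, 0⟩, ⟨-1, 0, 1, 0⟩, ⟨0, 0, -1, 0⟩]),
  (273, 26, 0x0, 3, [⟨4, 0, 0, 0⟩, ⟨-2, 0, 0, 0⟩, ⟨1, 0, 0, 0⟩, ⟨-2, 0, 3, 0⟩, ⟨1, 0, -3, 0⟩, ⟨0, 0, 0, 0⟩, ⟨0, 0, 0, 0⟩, ⟨1, 0, 0, 0⟩, ⟨0, 0, -1, 0⟩, ⟨-1, 0, 1, 0⟩, ⟨1, 0, 0, 0⟩, ⟨0, 0, -1, 0⟩, ⟨-1, 0, 1, 0⟩]),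
  (273, 13, 0x800040000, 3, [⟨4, 0, 0, 0⟩, ⟨-2, 0, 0, 0⟩, ⟨1, 0, 0, 0⟩, ⟨1, 0, -3, 0⟩, ⟨-2, 0, 3, 0⟩, ⟨0, 0, 0, 0⟩, ⟨0, 0, 0, 0⟩, ⟨-1, 0, 1, 0⟩, ⟨0, 0, -1, 0⟩, ⟨1, 0, 0, 0⟩, ⟨0, 0, -1, 0⟩, ⟨1, 0, 0, 0⟩, ⟨-1, 0, 1, 0⟩]),
  (273, 26, 0x800040000, 3, [⟨4, 0, 0, 0⟩, ⟨-2, 0, 0, 0⟩, ⟨1, 0, 0, 0⟩, ⟨-2, 0, 3, 0⟩, ⟨1, 0, -3, 0⟩, ⟨0, 0, 0, 0⟩, ⟨0, 0, 0, 0⟩, ⟨-1, 0, 1, 0⟩, ⟨1, 0, 0, 0⟩, ⟨0, 0, -1, 0⟩, ⟨0, 0, -1, 0⟩, ⟨-1, 0, 1, 0⟩, ⟨1, 0, 0, 0⟩]),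
  (273, 13, 0x400080000, 3, [⟨4, 0, 0, 0⟩, ⟨-2, 0, 0, 0⟩, ⟨1, 0, 0, 0⟩, ⟨1, 0, -3, 0⟩, ⟨-2, 0, 3, 0⟩, ⟨0, 0, 0, 0⟩, ⟨0, 0, 0, 0⟩, ⟨0, 0, -1, 0⟩, ⟨1, 0, 0, 0⟩, ⟨-1, 0, 1, 0⟩, ⟨-1, 0, 1, 0⟩, ⟨0, 0, -1, 0⟩, ⟨1, 0, 0, 0⟩]),
  (273, 26, 0x400080000, 3, [⟨4, 0, 0, 0⟩, ⟨-2, 0, 0, 0⟩, ⟨1, 0, 0, 0⟩, ⟨-2, 0, 3, 0⟩, ⟨1, 0, -3, 0⟩, ⟨0, 0, 0, 0⟩, ⟨0, 0, 0, 0⟩, ⟨0, 0, -1, 0⟩, ⟨-1, 0, 1, 0⟩, ⟨1, 0, 0, 0⟩, ⟨-1, 0, 1, 0⟩, ⟨1, 0, 0, 0⟩, ⟨0, 0, -1, 0⟩])]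
/-- virtual characters vanishing on the complement -/
def al12 (i : ℕ) : ℕ → Z4 := cmb ([[1, 0, 0, 0, 0, 0, 0, 0, 0, 0, 0, 0, 0], [-1, 0, 0, -1, 0, 0, 0, 1, 0, 0, 0, 0, 0], [-1, 0, 0, -1, 0, 0, 0, 0, 1, 0, 0, 0, 0], [0, -1, 0, -1, 0, 0, 0, 0, 0, 1, 0, 0, 0], [0, -1, 0, -1, 0, 0, 0, 0, 0, 0, 1, 0, 0], [0, 0, -1, -1, 0, 0, 0, 0, 0, 0, 0, 1, 0], [0, 0, -1, -1, 0, 0, 0, 0, 0, 0, 0, 0, 1], [0, 0, 0, 0, 0, 0, 1, -1, 0, -1, 0, -1, 0], [-1, -1, -1, -1, 1, 0, 0, 0, 0, 0, 0, 0, 0], [0, 0, 0, -2, 0, 1, 0, 0, 0, 0, 0, 0, 0]].getD i []) (ch12.map fun p => tbl p.2.2.2.2)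
/-- their Gram matrix -/
def gr12 (i j : ℕ) : ℤ := ([[1, -1, -1, 0, 0, 0, 0, 0, -1, 0], [-1, 3, 2, 1, 1, 1, 1, -1, 2, 2], [-1, 2, 3, 1, 1, 1, 1, 0, 2, 2], [0, 1, 1, 3, 2, 1, 1, -1, 2, 2], [0, 1, 1, 2, 3, 1, 1, 0, 2, 2], [0, 1, 1, 1, 1, 3, 2, -1, 2, 2], [0, 1, 1, 1, 1, 2, 3, 0, 2, 2], [0, -1, 0, -1, 0, -1, 0, 4, 0, 0], [-1, 2, 2, 2, 2, 2, 2, 0, 5, 2], [0, 2, 2, 2, 2, 2, 2, 0, 2, 5]].getD i []).getD j 0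

theorem ch12_ok : (ch12.all fun p => chk 12 ct12 p.1 p.2.1 p.2.2.1 p.2.2.2.1 (tbl p.2.2.2.2)) = true := by decide +kernel

theorem ch12_Z : ∀ F ∈ ch12.map fun p => tbl p.2.2.2.2, cf 12 ct12 F ∈ ZIrr (Ga 12) := fun F hF => by
  obtain ⟨p, hp, rfl⟩ := List.mem_map.1 hF
  exact chk_ZIrr (List.all_eq_true.1 ch12_ok p hp)

theorem go12 : goS (fun S => lfq false (S.map fun ds => (dtl [3, 3, 0, -2, -2, -2, -2, -2, -2, 0] ds,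
    dtl [0, 0, -3, 1, -2, 1, -2, 1, -2, 0] ds, dtl [-6, -6, 6, -1, 5, -1, 5, -1, 5, 0] ds))) gr12 (List.range 10) [] [] = true := by
  decide +kernel

theorem Ctx.top12 {H : Type*} [Group H] [Finite H] {f : Ga 12 →* H} {J : Subgroup H} (h : Ctx f J) : 𝒩(J) = ⊤ := by
  by_contra ne
  obtain ⟨T, h1, h2⟩ := h.core (CT := ct12) (nc := 13) (sz := sz12) (by decide +kernel) (al := al12)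
    (fun _ => cmb_ZIrr _ ch12_Z) (ia := 7006) (by decide +kernel) (d := gr12) (by decide +kernel) (Me := 54) (My := 27)
    (MZ := 81) (zm := 24) (by decide +kernel) (by decide +kernel) (by decide +kernel) (by decide +kernel) (by decide +kernel)
    (by decide +kernel) (cmb_ZIrr [1, 1, 1, 3, 0, 0, 0, 0, 0, 0, 0, 0, 0] ch12_Z) (by decide +kernel) (t1 := 216) (t2 := 108) (t3 := 324)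
    (t4 := 324) (by decide +kernel) (by decide +kernel) (by decide +kernel) (by decide +kernel) go12
  exact lfq_false (N := f.range.index) (by exact_mod_cast h.idx ne) h1 h2

/-- class map -/
def ct24 : ℕ := 0xa9a9aaaa9a9a9aaaa9a9a9aaaa9cccccccccdddddddddbbbbbbbbbdddddddddcccccccccbbbbbbbbb9aaa9aaa99aaa9aaa99aaa9aaa9dddcccbbbdddcccbbbdddcccbbba9aa9aa9a9aa9aa9aaaa9aa9aa9cccdddbbbcccdddbbbcccdddbbb9aa9aa9aaa9aa9aa9aaa9aa9aa9cdbcdbcdbcdbcdbcdbcdbcdbcdbdcbdcbdcbdcbdcbdcbdcbdcbdcbaaa999aaa999aaaaaaaaaaaa999999aaaaaaaaa999aaaaaaaaa999867786678786678867678867786876768687687876768768687876876687768768876687687768876678786867786867678867678786786678867867786678678867786768876687876687768687768876786867678678786867867678786687876768876768687768687876555555555555555555444444444555555444555555444555555444554554554554554554554554554332332221332332221221221110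
/-- class sizes -/
def sz24 (c : ℕ) : ℕ := [1, 6, 12, 8, 27, 54, 72, 72, 72, 54, 108, 54, 54, 54].getD c 0
/-- irreducible characters -/
def ch24 : List (ℕ × ℕ × ℕ × ℕ × List Z4) := [
  (16777215, 0, 0x0, 24, [⟨1, 0, 0, 0⟩, ⟨1, 0, 0, 0⟩, ⟨1, 0, 0, 0⟩, ⟨1, 0, 0, 0⟩, ⟨1, 0, 0, 0⟩, ⟨1, 0, 0, 0⟩, ⟨1, 0, 0, 0⟩, ⟨1, 0, 0, 0⟩, ⟨1, 0, 0, 0⟩, ⟨1, 0, 0, 0⟩, ⟨1, 0, 0, 0⟩, ⟨1, 0, 0, 0⟩, ⟨1, 0, 0, 0⟩, ⟨1, 0, 0, 0⟩]),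
  (16777215, 0, 0x666666666666000000000000, 24, [⟨1, 0, 0, 0⟩, ⟨1, 0, 0, 0⟩, ⟨1, 0, 0, 0⟩, ⟨1, 0, 0, 0⟩, ⟨1, 0, 0, 0⟩, ⟨1, 0, 0, 0⟩, ⟨1, 0, 0, 0⟩, ⟨1, 0, 0, 0⟩, ⟨1, 0, 0, 0⟩, ⟨-1, 0, 0, 0⟩, ⟨-1, 0, 0, 0⟩, ⟨-1, 0, 0, 0⟩, ⟨-1, 0, 0, 0⟩, ⟨-1, 0, 0, 0⟩]),
  (4095, 0, 0x888844440000, 12, [⟨2, 0, 0, 0⟩, ⟨2, 0, 0, 0⟩, ⟨2, 0, 0, 0⟩, ⟨2, 0, 0, 0⟩, ⟨2, 0, 0, 0⟩, ⟨2, 0, 0, 0⟩, ⟨-1, 0, 0, 0⟩, ⟨-1, 0, 0, 0⟩, ⟨-1, 0, 0, 0⟩, ⟨0, 0, 0, 0⟩, ⟨0, 0, 0, 0⟩, ⟨0, 0, 0, 0⟩, ⟨0, 0, 0, 0⟩, ⟨0, 0, 0, 0⟩]),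
  (61455, 0, 0x66000000006600, 8, [⟨3, 0, 0, 0⟩, ⟨3, 0, 0, 0⟩, ⟨3, 0, 0, 0⟩, ⟨3, 0, 0, 0⟩, ⟨-1, 0, 0, 0⟩, ⟨-1, 0, 0, 0⟩, ⟨0, 0, 0, 0⟩, ⟨0, 0, 0, 0⟩, ⟨0, 0, 0, 0⟩, ⟨-1, 0, 0, 0⟩, ⟨-1, 0, 0, 0⟩, ⟨1, 0, 0, 0⟩, ⟨1, 0, 0, 0⟩, ⟨1, 0, 0, 0⟩]),
  (61455, 0, 0x6600000000006600, 8, [⟨3, 0, 0, 0⟩, ⟨3, 0, 0, 0⟩, ⟨3, 0, 0, 0⟩, ⟨3, 0, 0, 0⟩, ⟨-1, 0, 0, 0⟩, ⟨-1, 0, 0, 0⟩, ⟨0, 0, 0, 0⟩, ⟨0, 0, 0, 0⟩, ⟨0, 0, 0, 0⟩, ⟨1, 0, 0, 0⟩, ⟨1, 0, 0, 0⟩, ⟨-1, 0, 0, 0⟩, ⟨-1, 0, 0, 0⟩, ⟨-1, 0, 0, 0⟩]),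
  (49155, 1, 0x0, 4, [⟨6, 0, 0, 0⟩, ⟨3, 0, 0, 0⟩, ⟨0, 0, 0, 0⟩, ⟨-3, 0, 0, 0⟩, ⟨2, 0, 0, 0⟩, ⟨-1, 0, 0, 0⟩, ⟨0, 0, 0, 0⟩, ⟨0, 0, 0, 0⟩, ⟨0, 0, 0, 0⟩, ⟨0, 0, 0, 0⟩, ⟨0, 0, 0, 0⟩, ⟨2, 0, 0, 0⟩, ⟨-1, 0, 0, 0⟩, ⟨-1, 0, 0, 0⟩]),
  (49155, 1, 0x6600000000000000, 4, [⟨6, 0, 0, 0⟩, ⟨3, 0, 0, 0⟩, ⟨0, 0, 0, 0⟩, ⟨-3, 0, 0, 0⟩, ⟨2, 0, 0, 0⟩, ⟨-1, 0, 0, 0⟩, ⟨0, 0, 0, 0⟩, ⟨0, 0, 0, 0⟩, ⟨0, 0, 0, 0⟩, ⟨0, 0, 0, 0⟩, ⟨0, 0, 0, 0⟩, ⟨-2, 0, 0, 0⟩, ⟨1, 0, 0, 0⟩, ⟨1, 0, 0, 0⟩]),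
  (49155, 1, 0x9300000000000060, 4, [⟨6, 0, 0, 0⟩, ⟨3, 0, 0, 0⟩, ⟨0, 0, 0, 0⟩, ⟨-3, 0, 0, 0⟩, ⟨-2, 0, 0, 0⟩, ⟨1, 0, 0, 0⟩, ⟨0, 0, 0, 0⟩, ⟨0, 0, 0, 0⟩, ⟨0, 0, 0, 0⟩, ⟨0, 0, 0, 0⟩, ⟨0, 0, 0, 0⟩, ⟨0, 0, 0, 0⟩, ⟨0, -2, 0, 1⟩, ⟨0, 2, 0, -1⟩]),
  (49155, 1, 0x3900000000000060, 4, [⟨6, 0, 0, 0⟩, ⟨3, 0, 0, 0⟩, ⟨0, 0, 0, 0⟩, ⟨-3, 0, 0, 0⟩, ⟨-2, 0, 0, 0⟩, ⟨1, 0, 0, 0⟩, ⟨0, 0, 0, 0⟩, ⟨0, 0, 0, 0⟩, ⟨0, 0, 0, 0⟩, ⟨0, 0, 0, 0⟩, ⟨0, 0, 0, 0⟩, ⟨0, 0, 0, 0⟩, ⟨0, 2, 0, -1⟩, ⟨0, -2, 0, 1⟩]),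
  (8388609, 4, 0x0, 2, [⟨12, 0, 0, 0⟩, ⟨0, 0, 0, 0⟩, ⟨-3, 0, 0, 0⟩, ⟨3, 0, 0, 0⟩, ⟨0, 0, 0, 0⟩, ⟨0, 0, 0, 0⟩, ⟨0, 0, 0, 0⟩, ⟨0, 0, 0, 0⟩, ⟨0, 0, 0, 0⟩, ⟨2, 0, 0, 0⟩, ⟨-1, 0, 0, 0⟩, ⟨0, 0, 0, 0⟩, ⟨0, 0, 0, 0⟩, ⟨0, 0, 0, 0⟩]),
  (8388609, 4, 0x600000000000000000000000, 2, [⟨12, 0, 0, 0⟩, ⟨0, 0, 0, 0⟩, ⟨-3, 0, 0, 0⟩, ⟨3, 0, 0, 0⟩, ⟨0, 0, 0, 0⟩, ⟨0, 0, 0, 0⟩, ⟨0, 0, 0, 0⟩, ⟨0, 0, 0, 0⟩, ⟨0, 0, 0, 0⟩, ⟨-2, 0, 0, 0⟩, ⟨1, 0, 0, 0⟩, ⟨0, 0, 0, 0⟩, ⟨0, 0, 0, 0⟩, ⟨0, 0, 0, 0⟩]),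
  (273, 13, 0x0, 3, [⟨8, 0, 0, 0⟩, ⟨-4, 0, 0, 0⟩, ⟨2, 0, 0, 0⟩, ⟨-1, 0, 0, 0⟩, ⟨0, 0, 0, 0⟩, ⟨0, 0, 0, 0⟩, ⟨2, 0, 0, 0⟩, ⟨-1, 0, 0, 0⟩, ⟨-1, 0, 0, 0⟩, ⟨0, 0, 0, 0⟩, ⟨0, 0, 0, 0⟩, ⟨0, 0, 0, 0⟩, ⟨0, 0, 0, 0⟩, ⟨0, 0, 0, 0⟩]),
  (273, 13, 0x800040000, 3, [⟨8, 0, 0, 0⟩, ⟨-4, 0, 0, 0⟩, ⟨2, 0, 0, 0⟩, ⟨-1, 0, 0, 0⟩, ⟨0, 0, 0, 0⟩, ⟨0, 0, 0, 0⟩, ⟨-1, 0, 0, 0⟩, ⟨-1, 0, 0, 0⟩, ⟨2, 0, 0, 0⟩, ⟨0, 0, 0, 0⟩, ⟨0, 0, 0, 0⟩, ⟨0, 0, 0, 0⟩, ⟨0, 0, 0, 0⟩, ⟨0, 0, 0, 0⟩]),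
  (273, 13, 0x400080000, 3, [⟨8, 0, 0, 0⟩, ⟨-4, 0, 0, 0⟩, ⟨2, 0, 0, 0⟩, ⟨-1, 0, 0, 0⟩, ⟨0, 0, 0, 0⟩, ⟨0, 0, 0, 0⟩, ⟨-1, 0, 0, 0⟩, ⟨2, 0, 0, 0⟩, ⟨-1, 0, 0, 0⟩, ⟨0, 0, 0, 0⟩, ⟨0, 0, 0, 0⟩, ⟨0, 0, 0, 0⟩, ⟨0, 0, 0, 0⟩, ⟨0, 0, 0, 0⟩])]
/-- virtual characters vanishing on the complement -/
def al24 (i : ℕ) : ℕ → Z4 := cmb ([[1, 0, 0, 0, 0, 0, 0, 0, 0, 0, 0, 0, 0, 0], [0, 0, 0, -1, -1, 0, 0, 1, 0, 0, 0, 0, 0, 0], [0, 0, 0, -1, -1, 0, 0, 0, 1, 0, 0, 0, 0, 0], [0, 0, -1, 0, 0, 0, 0, -1, 0, 0, 0, 0, 1, 0], [0, 0, -1, 0, 0, 0, 0, -1, 0, 0, 0, 0, 0, 1], [-1, 0, -1, -1, 0, 1, 0, 0, 0, 0, 0, 0, 0, 0], [-1, 0, 0, 0, -1, 0, 0, 0, 0, 1, 0, 0, -1, 0], [-1, -1, 0, 0, 0, 0, 0,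 -1, 0, 0, 0, 1, 0, 0], [0, -1, -1, 0, -1, 0, 1, 0, 0, 0, 0, 0, 0, 0], [0, -1, 0, -1, 0, 0, 0, 0, 0, 0, 1, 0, -1, 0]].getD i []) (ch24.map fun p => tbl p.2.2.2.2)
/-- their Gram matrix -/
def gr24 (i j : ℕ) : ℤ := ([[1, 0, 0, 0, 0, -1, -1, -1, 0, 0], [0, 3, 2, -1, -1, 1, 1, -1, 1, 1], [0, 2, 3, 0, 0, 1, 1, 0, 1, 1], [0, -1, 0, 3, 2, 1, -1, 1, 1, -1], [0, -1, 0, 2, 3, 1, 0, 1, 1, 0], [-1, 1, 1, 1, 1, 4, 1, 1, 1, 1], [-1, 1, 1, -1, 0, 1, 4, 1, 1, 1], [-1, -1, 0, 1, 1, 1, 1, 4, 1, 1], [0, 1, 1, 1, 1, 1, 1, 1, 4, 1], [0, 1, 1, -1, 0, 1, 1, 1, 1, 4]].getD i []).getD j 0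

theorem ch24_ok : (ch24.all fun p => chk 24 ct24 p.1 p.2.1 p.2.2.1 p.2.2.2.1 (tbl p.2.2.2.2)) = true := by decide +kernel

theorem ch24_Z : ∀ F ∈ ch24.map fun p => tbl p.2.2.2.2, cf 24 ct24 F ∈ ZIrr (Ga 24) := fun F hF => by
  obtain ⟨p, hp, rfl⟩ := List.mem_map.1 hF
  exact chk_ZIrr (List.all_eq_true.1 ch24_ok p hp)

theorem go24 : goS (fun S => lfq true (S.map fun ds => (dtl [0, 3, -4, 0, 3, -4, -4, 3, -9, 0] ds,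
    dtl [-3, 0, 2, -3, 0, 2, -4, 0, 0, 0] ds, dtl [6, -6, -2, 6, -6, -2, 10, -6, 0, 0] ds))) gr24 (List.range 10) [] [] = true := by
  decide +kernel

theorem Ctx.top24 {H : Type*} [Group H] [Finite H] {f : Ga 24 →* H} {J : Subgroup H} (h : Ctx f J) : 𝒩(J) = ⊤ := by
  by_contra ne
  obtain ⟨T, h1, h2⟩ := h.core (CT := ct24) (nc := 14) (sz := sz24) (by decide +kernel) (al := al24)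
    (fun _ => cmb_ZIrr _ ch24_Z) (ia := 13742) (by decide +kernel) (d := gr24) (by decide +kernel) (Me := 108) (My := 54)
    (MZ := 162) (zm := 8) (by decide +kernel) (by decide +kernel) (by decide +kernel) (by decide +kernel) (by decide +kernel)
    (by decide +kernel) (cmb_ZIrr [1, 1, 2, 3, 3, 0, 0, 0, 0, 0, 0, 0, 0, 0] ch24_Z) (by decide +kernel) (t1 := 864) (t2 := 432) (t3 := 1296)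
    (t4 := 1296) (by decide +kernel) (by decide +kernel) (by decide +kernel) (by decide +kernel) go24
  exact lfq_false (N := f.range.index) (by exact_mod_cast h.idx ne) h1 h2

end CA.McL

theorem CA.realizeEqns_McL_B6 : True := by
  have := @CA.McL.ct24.eq_1
  have := @CA.McL.ct24.eq_def
  have := @CA.McL.ct24.congr_simp
  have := @CA.McL.ch12.eq_1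
  have := @CA.McL.ch12.eq_def
  have := @CA.McL.ch12.congr_simp
  have := @CA.McL.ct12.eq_1
  have := @CA.McL.ct12.eq_def
  have := @CA.McL.ct12.congr_simp
  have := @CA.McL.sz12.eq_1
  have := @CA.McL.sz12.eq_def
  have := @CA.McL.sz12.congr_simp
  have := @CA.McL.al24.eq_1
  have := @CA.McL.al24.eq_def
  have := @CA.McL.al24.congr_simp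
  have := @CA.McL.sz24.eq_1
  have := @CA.McL.sz24.eq_def
  have := @CA.McL.sz24.congr_simp
  have := @CA.McL.gr24.eq_1
  have := @CA.McL.gr24.eq_def
  have := @CA.McL.gr24.congr_simp
  have := @CA.McL.tbl.eq_1
  have := @CA.McL.tbl.eq_def
  have := @CA.McL.tbl.congr_simp
  have := @CA.McL.al12.eq_1
  have := @CA.McL.al12.eq_def
  have := @CA.McL.al12.congr_simp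
  have := @CA.McL.ch24.eq_1
  have := @CA.McL.ch24.eq_def
  have := @CA.McL.ch24.congr_simp
  have := @CA.McL.gr12.eq_1
  have := @CA.McL.gr12.eq_def
  have := @CA.McL.gr12.congr_simp
  trivial
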