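/-
Tables for the centralizer of an involution.
-/
import Cfsg.Agent.McL.D0
set_option autoImplicit false
set_option maxRecDepth 100000
namespace CA.McL
open CA.TC CA.PM
def SC : Nat := (nat_lit 2046)
def ST : Nat := (nat_lit 254)
def SQ : Nat := (nat_lit 126)
def SP2 : Nat := (nat_lit 510)
def SNV : Nat := (nat_lit 2558)
def SP1 : Nat := (nat_lit 1534)
def SP3 : Nat := (nat_lit 1022)
def SN1 : Nat := (nat_lit 3582)
def SN2 : Nat := (nat_lit 3070)
noncomputable def act8 (g p : Nat) : Nat := Nat.land (Nat.shiftRight (nat_lit 0x4253de81735e9774c151ebc1de5053611f66650f74de521ab3e4c1fac688000000) (Nat.mul (nat_lit 3) (Nat.add (Nat.mul g (nat_lit 8)) p))) (nat_lit 0x7)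
def B8 : List Nat := [(nat_lit 5), (nat_lit 4), (nat_lit 3), (nat_lit 2), (nat_lit 1), (nat_lit 0)]
theorem tb8_0 : rng (tbChk SC 8 act8) (nat_lit 0) (nat_lit 8) (nat_lit 0) = true := by decide +kernel
theorem tb8 : ∀ i < 8, (tbChk SC 8 act8) i = true := fun i hi =>
    rng_spec tb8_0 i (Nat.zero_le _) hi
noncomputable def lw0c (i : Nat) : Nat := Nat.land (Nat.shiftRight (nat_lit 0x7305430406030200) (Nat.mul (nat_lit 8) i)) (nat_lit 0xff)
noncomputable def lw0 (i : Nat) : List Nat := frc (lw0c i) (dec (nat_lit 3))
noncomputable def lw0k (i : Nat) : Nat := Nat.land (Nat.shiftRight (nat_lit 0x876543210) (Nat.mul (nat_lit 4) i)) (nat_lit 0xf)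
theorem lw0_ok_0 : rng (lvChk act8 SC [] 0 lw0 lw0k) (nat_lit 0) (nat_lit 8) (nat_lit 0) = true := by decide +kernel
theorem lw0_ok : ∀ i < 8, (lvChk act8 SC [] 0 lw0 lw0k) i = true := fun i hi =>
    rng_spec lw0_ok_0 i (Nat.zero_le _) hi
noncomputable def lw1c (i : Nat) : Nat := Nat.land (Nat.shiftRight (nat_lit 0x958960a58a67967a6000) (Nat.mul (nat_lit 12) i)) (nat_lit 0xfff)
noncomputable def lw1 (i : Nat) : List Nat := frc (lw1c i) (dec (nat_lit 4))
noncomputable def lw1k (i : Nat) : Nat := Nat.land (Nat.shiftRight (nat_lit 0x87654321) (Nat.mul (nat_lit 4) i)) (nat_lit 0xf)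
theorem lw1_ok_0 : rng (lvChk act8 SC [0] 1 lw1 lw1k) (nat_lit 0) (nat_lit 7) (nat_lit 0) = true := by decide +kernel
theorem lw1_ok : ∀ i < 7, (lvChk act8 SC [0] 1 lw1 lw1k) i = true := fun i hi =>
    rng_spec lw1_ok_0 i (Nat.zero_le _) hi
noncomputable def lw2c (i : Nat) : Nat := Nat.land (Nat.shiftRight (nat_lit 0x7548a970072008705420000) (Nat.mul (nat_lit 16) i)) (nat_lit 0xffff)
noncomputable def lw2 (i : Nat) : List Nat := frc (lw2c i) (dec (nat_lit 5))
noncomputable def lw2k (i : Nat) : Nat := Nat.land (Nat.shiftRight (nat_lit 0x8765432) (Nat.mul (nat_lit 4) i)) (nat_lit 0xf)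
theorem lw2_ok_0 : rng (lvChk act8 SC [1, 0] 2 lw2 lw2k) (nat_lit 0) (nat_lit 6) (nat_lit 0) = true := by decide +kernel
theorem lw2_ok : ∀ i < 6, (lvChk act8 SC [1, 0] 2 lw2 lw2k) i = true := fun i hi =>
    rng_spec lw2_ok_0 i (Nat.zero_le _) hi
noncomputable def lw3c (i : Nat) : Nat := Nat.land (Nat.shiftRight (nat_lit 0x8a92002a9286a49206a392000000) (Nat.mul (nat_lit 24) i)) (nat_lit 0xffffff)
noncomputable def lw3 (i : Nat) : List Nat := frc (lw3c i) (dec (nat_lit 7))
noncomputable def lw3k (i : Nat) : Nat := Nat.land (Nat.shiftRight (nat_lit 0x876543) (Nat.mul (nat_lit 4) i)) (nat_lit 0xf)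
theorem lw3_ok_0 : rng (lvChk act8 SC [2, 1, 0] 3 lw3 lw3k) (nat_lit 0) (nat_lit 5) (nat_lit 0) = true := by decide +kernel
theorem lw3_ok : ∀ i < 5, (lvChk act8 SC [2, 1, 0] 3 lw3 lw3k) i = true := fun i hi =>
    rng_spec lw3_ok_0 i (Nat.zero_le _) hi
noncomputable def lw4c (i : Nat) : Nat := Nat.land (Nat.shiftRight (nat_lit 0x863632082000) (Nat.mul (nat_lit 12) i)) (nat_lit 0xfff)
noncomputable def lw4 (i : Nat) : List Nat := frc (lw4c i) (dec (nat_lit 4))
noncomputable def lw4k (i : Nat) : Nat := Nat.land (Nat.shiftRight (nat_lit 0x87654) (Nat.mul (nat_lit 4) i)) (nat_lit 0xf)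
theorem lw4_ok_0 : rng (lvChk act8 SC [3, 2, 1, 0] 4 lw4 lw4k) (nat_lit 0) (nat_lit 4) (nat_lit 0) = true := by decide +kernel
theorem lw4_ok : ∀ i < 4, (lvChk act8 SC [3, 2, 1, 0] 4 lw4 lw4k) i = true := fun i hi =>
    rng_spec lw4_ok_0 i (Nat.zero_le _) hi
noncomputable def lw5c (i : Nat) : Nat := Nat.land (Nat.shiftRight (nat_lit 0x7496a77a6974000000) (Nat.mul (nat_lit 24) i)) (nat_lit 0xffffff)
noncomputable def lw5 (i : Nat) : List Nat := frc (lw5c i) (dec (nat_lit 7))
noncomputable def lw5k (i : Nat) : Nat := Nat.land (Nat.shiftRight (nat_lit 0x8765) (Nat.mul (nat_lit 4) i)) (nat_lit 0xf)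
theorem lw5_ok_0 : rng (lvChk act8 SC [4, 3, 2, 1, 0] 5 lw5 lw5k) (nat_lit 0) (nat_lit 3) (nat_lit 0) = true := by decide +kernel
theorem lw5_ok : ∀ i < 3, (lvChk act8 SC [4, 3, 2, 1, 0] 5 lw5 lw5k) i = true := fun i hi =>
    rng_spec lw5_ok_0 i (Nat.zero_le _) hi
noncomputable def cj (g : Nat) : List Nat := nth [] [[], [], [(nat_lit 10), (nat_lit 7)], [], [(nat_lit 8), (nat_lit 7)], [(nat_lit 8), (nat_lit 9), (nat_lit 10), (nat_lit 7)], [(nat_lit 7), (nat_lit 9), (nat_lit 10), (nat_lit 7)], [(nat_lit 8), (nat_lit 9), (nat_lit 7)]] g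
theorem cj_ok : allS 252 (fun g => eqW act8 SC B8 [[g], cj g] [cj g, [3]]) = true := by decide +kernel
noncomputable def actS (g p : Nat) : Nat := Bool.rec (Nat.add 275 (act8 g (Nat.sub p 275))) (act g p) (blt p 275)
theorem sm_1 : allS SC (fun g => eqW act8 SC B8 [[g], [g]] []) = true := by decide +kernel
theorem sm_2_0 : rng (sumChk actS act8 SC 275 (fun g => [g])) (nat_lit 0) (nat_lit 8) (nat_lit 0) = true := by decide +kernel
theorem sm_2 : ∀ i < 8, (sumChk actS act8 SC 275 (fun g => [g])) i = true := fun i hi =>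
    rng_spec sm_2_0 i (Nat.zero_le _) hi
def BS : List Nat := [(nat_lit 4), (nat_lit 3), (nat_lit 2), (nat_lit 1), (nat_lit 0), (nat_lit 280), (nat_lit 279), (nat_lit 278), (nat_lit 277), (nat_lit 276), (nat_lit 275)]
noncomputable def cv1c (i : Nat) : Nat := Nat.land (Nat.shiftRight (nat_lit 0x73646273546346536453654336726372376273627452754267327632467153713761746137517351674176416731753165214321046703670637053706270327037602760746054607360536043603750275046503650745064507350635043506740274076403640754065403540673027307630463075306530453064305430672037207620362075206520452074205420732063204320671037107610461075106510351074106410731053104310621052104210321006700370027007600460036007500650045003500740064005400730063005300430072006200520042003200710061005100410031002100070006000500040003000200010000) (Nat.mul (nat_lit 16) i)) (nat_lit 0xffff)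
noncomputable def cv1 (i : Nat) : List Nat := frc (cv1c i) (dec (nat_lit 5))
noncomputable def cv1n (g p : Nat) : Nat := Nat.land (Nat.shiftRight (nat_lit 0x9957cf8c98fefc82f1cb7a2d6e428ac24ada6aed29c382b7bf5033e6b29cff13da6fd04d97f1bd66b9d89494c7f2f3f6c3485779491c3be274d08f620ffa8fe83b93e5ca066e16cf60ad427432bd5e747384c406bb6c2a3a94824d960e3444409ebb70d80b15eb15210080e992c48687e11e849850303ec5b2eee6d4a77fb1d2ff6595155b4d15c3245dd0f9db5fab9d0a5a6fbcdd6ea37c8d7d33c65a89a5fe16fd1334629ec9fa25e1da47a42e65adcc7591b9178f622eaeb15a6d4c119cfbc0f8f09d4a25005a74678495201c382fc13a60d59815cacf274600e182a44606c9da2d999077dfc7fa738e5ceeb2f395f47d5aedaa4f4377fee8af58f18789fd27be6042c1e2c56d9ae69bd67fb3261a46d923e962aa3d137bb5fd524452f41f4a8c963c19d61a31254a7a04c2ce21cad418aba3b968386143a5ca091218380edd026e697ae026d4a63a700172840585e592d43ab474c8eddddd7c7fd9c48cc766dc2f7ce2a6911fee7a35c7b73502ebff4f52e873d9dcf63d1a7e86f355ee96f8c1bcaf0f851e299edb541eb288124cfa60ee2ab70c977248d22ca00930dc466ca5a75d0d66a560b403a7168a2c206e15b904d16302e054253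27cd80263c504bd96553ad71fe17baa268e3379bb63197cb91da7f48697f23675fc2141fedfabae8f9dc5ece52f95171bd31f918d9f4beb9db9875cee55b7f24bb91e16a13680e138fc6377c5db445aa82b130a6aa7308c81f05fb21ac55a014b4c926461008f9e1468099155aa00a44478d130038483bf23dfafbf31e4df1a5d4d36e7edefab844cbbb9d25ca35f8f3611a2fe826d3e5560e23b2ad74b9a21c2e266ec5eb5a07e2dda66ca342cc966c989e5e70dac2ea8a937ef9e98779d4b83ed96e6182c509c3803de56f2bba72527306f1da9a6834305080c9274c95201424480f1c00402efcfe7df5efc79ffcba75fddb2e2bf76c529f3644474d38e3c9c1fbedef77568d0e2ed77728cb95b2ac9d6e3541a94e8696d6ece8b502642c382f35af9dbce731de66468901f3a70d193058a13224078e66c893160557ae2eb562b36a8f2950853a64a903860a101821a3058a122000100000000000000000000000000000000000000000000000000000000000000000000000000000000000000000000000000000000000000000000000000000000000000000000000000000000000000000000000000000000000000000000000000000000000000000000000000000000) (Nat.mul (nat_lit 7) (Nat.add (Nat.mul g (nat_lit 128)) p))) (nat_lit 0x7f)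
noncomputable def cv1uc (g p : Nat) : Nat := Nat.land (Nat.shiftRight (nat_lit 0x0) (Nat.mul (nat_lit 4) (Nat.add (Nat.mul g (nat_lit 128)) p))) (nat_lit 0xf)
noncomputable def cv1u (g p : Nat) : List Nat := frc (cv1uc g p) (dec (nat_lit 2))
theorem cv1_ok_0 : rng (covChk actS BS ST 0 128 cv1 cv1n cv1u) (nat_lit 0) (nat_lit 128) (nat_lit 1) = true := by decide +kernel
theorem cv1_ok : ∀ i < 128, (covChk actS BS ST 0 128 cv1 cv1n cv1u) i = true := fun i hi =>
    rng_spec cv1_ok_0 i (Nat.zero_le _) hi
noncomputable def cv2c (i : Nat) : Nat := Nat.land (Nat.shiftRight (nat_lit 0x85a875a8058a067a086a076a085a075a08a807a805a80a78008a007a006a005a00a80078000a00080000) (Nat.mul (nat_lit 16) i)) (nat_lit 0xffff)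
noncomputable def cv2 (i : Nat) : List Nat := frc (cv2c i) (dec (nat_lit 5))
noncomputable def cv2n (g p : Nat) : Nat := Nat.land (Nat.shiftRight (nat_lit 0x42535d10e6362a1bce62852020800000000000000000000000000a9a626695e45d2423c1cc1a001a2a4971a0561271409ed584e30326e3a1b27d1642c2224a8660828b43dd181d9321a4d48943284149ca307b9ac5a928398a418820a4e5183dcd62d4941cc520c41052728c1ee6b16a4a0e629062082939460f7358b5250731483104000000000000000000000000000) (Nat.mul (nat_lit 5) (Nat.add (Nat.mul g (nat_lit 21)) p))) (nat_lit 0x1f)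
noncomputable def cv2uc (g p : Nat) : Nat := Nat.land (Nat.shiftRight (nat_lit 0x67100650065007107610076007507510751007106510000006700070061005100000000000000000000000000000000000000000000000000000000000000000000000000000000000000000000000000000000000000750071065100000651000006510000005100000071000006510000000000000007000000000000007500000651007106510000065100000051000000000071065100000000000000000000000000000007007100710000000000000000000000000071007100710071000000000000007100710005000000060006007100000000000000000000000000000071000000000071000000000071000000000065000000650005004200320002042104320042432103210002032100320042002100320042032103210043003200430004004300420041000200030432000443210031000200430041003100210003000400310004003100030003000400040043004300430043004300430004000400410031004300430431043100410002043100210002000100010001000100010001000100010001000100010001000100010001000100010001000100010001000000000000000000000000000000000000000000000000000000000000000000000000000000000000) (Nat.mul (nat_lit 16) (Nat.add (Nat.mul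 g (nat_lit 21)) p))) (nat_lit 0xffff)
noncomputable def cv2u (g p : Nat) : List Nat := frc (cv2uc g p) (dec (nat_lit 5))
theorem cv2_ok_0 : rng (covChk actS BS SP1 ST 21 cv2 cv2n cv2u) (nat_lit 0) (nat_lit 21) (nat_lit 0) = true := by decide +kernel
theorem cv2_ok : ∀ i < 21, (covChk actS BS SP1 ST 21 cv2 cv2n cv2u) i = true := fun i hi =>
    rng_spec cv2_ok_0 i (Nat.zero_le _) hi
noncomputable def cv3c (i : Nat) : Nat := Nat.land (Nat.shiftRight (nat_lit 0x6a7395a73906a7905a790a8390a73900a8900a7900839007390008900079000390000900000) (Nat.mul (nat_lit 20) i)) (nat_lit 0xfffff)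
noncomputable def cv3 (i : Nat) : List Nat := frc (cv3c i) (dec (nat_lit 6))
noncomputable def cv3n (g p : Nat) : Nat := Nat.land (Nat.shiftRight (nat_lit 0xedcb6543a987210bdce798a3546201eac8d9b72513640ad8be9c762415309a78debc6543210a987edcb6543210cdeb89a76345120ebcd89a74563120cbed87a96543210edcba9876543210000000000000000) (Nat.mul (nat_lit 4) (Nat.add (Nat.mul g (nat_lit 15)) p))) (nat_lit 0xf)
noncomputable def cv3uc (g p : Nat) : Nat := Nat.land (Nat.shiftRight (nat_lit 0x65200061000020000500000000000000000000000000000000000000000000a000a10000a0083100831008310083107831000830000808371007830083100081008370000300000000000a52a006a6a52a100a5a006a60a52a00a5aa52a100000078370000000431000000000000008a65210000a000a2000a1652a10000a0002a000a107837000000043100000000000000000007000007837100000000437837100000000430000000521065210005200021005210005200006783710000000043000007837100000000430000006521000060002100051000060005100005786710786778671078670006578671000657867107871078710787107871078710787100004078710787107871078710000100787000010078700000078710000007871000000000000003000010000100001000010078700001007870000100065000650006500065006510065100002000010000100001000010000100001000010000100001000010000100001000010000100001000000000000000000000000000000000000000000000000000000000000000000000000000)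 (Nat.mul (nat_lit 20) (Nat.add (Nat.mul g (nat_lit 15)) p))) (nat_lit 0xfffff)
noncomputable def cv3u (g p : Nat) : List Nat := frc (cv3uc g p) (dec (nat_lit 6))
theorem cv3_ok_0 : rng (covChk actS BS SC SP1 15 cv3 cv3n cv3u) (nat_lit 0) (nat_lit 15) (nat_lit 0) = true := by decide +kernel
theorem cv3_ok : ∀ i < 15, (covChk actS BS SC SP1 15 cv3 cv3n cv3u) i = true := fun i hi =>
    rng_spec cv3_ok_0 i (Nat.zero_le _) hi
end CA.McL
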