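/-
Coset enumeration: checks.
-/
import Cfsg.Agent.McL.D4
set_option autoImplicit false
set_option maxRecDepth 100000
namespace CA.McL
open CA.TC CA.PM
theorem C5_t_0 : rng (C5.chkT) (nat_lit 0) (nat_lit 1500) (nat_lit 5) = true := by decide +kernel
theorem C5_t_1 : rng (C5.chkT) (nat_lit 1500) (nat_lit 3000) (nat_lit 5) = true := by decide +kernel
theorem C5_t_2 : rng (C5.chkT) (nat_lit 3000) (nat_lit 4500) (nat_lit 5) = true := by decide +kernel
theorem C5_t_3 : rng (C5.chkT) (nat_lit 4500) (nat_lit 6000) (nat_lit 5) = true := by decide +kernel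
theorem C5_t_4 : rng (C5.chkT) (nat_lit 6000) (nat_lit 7500) (nat_lit 5) = true := by decide +kernel
theorem C5_t_5 : rng (C5.chkT) (nat_lit 7500) (nat_lit 9000) (nat_lit 5) = true := by decide +kernel
theorem C5_t_6 : rng (C5.chkT) (nat_lit 9000) (nat_lit 10500) (nat_lit 5) = true := by decide +kernel
theorem C5_t_7 : rng (C5.chkT) (nat_lit 10500) (nat_lit 12000) (nat_lit 5) = true := by decide +kernel
theorem C5_t_8 : rng (C5.chkT) (nat_lit 12000) (nat_lit 13500) (nat_lit 5) = true := by decide +kernel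
theorem C5_t_9 : rng (C5.chkT) (nat_lit 13500) (nat_lit 15000) (nat_lit 5) = true := by decide +kernel
theorem C5_t_10 : rng (C5.chkT) (nat_lit 15000) (nat_lit 16500) (nat_lit 5) = true := by decide +kernel
theorem C5_t_11 : rng (C5.chkT) (nat_lit 16500) (nat_lit 18000) (nat_lit 5) = true := by decide +kernel
theorem C5_t_12 : rng (C5.chkT) (nat_lit 18000) (nat_lit 19500) (nat_lit 5) = true := by decide +kernel
theorem C5_t_13 : rng (C5.chkT) (nat_lit 19500) (nat_lit 21000) (nat_lit 5) = true := by decide +kernel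
theorem C5_t_14 : rng (C5.chkT) (nat_lit 21000) (nat_lit 22275) (nat_lit 5) = true := by decide +kernel
noncomputable def C5l (i : Nat) : Nat := Nat.land (Nat.shiftRight (nat_lit 0x33fffffffffcc7ffcdcdef5dffffffffffffffffffffbfffed7f6fffffffafacdb5ef) (Nat.mul (nat_lit 1) i)) (nat_lit 0x1)
theorem C5_i_0 : rng (invChk C5.S0 act C5l) (nat_lit 0) (nat_lit 275) (nat_lit 3) = true := by decide +kernel
theorem C5_i : ∀ i < 275, (invChk C5.S0 act C5l) i = true := fun i hi =>
    rng_spec C5_i_0 i (Nat.zero_le _) hi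
theorem C5_s_0 : rng (sepChk act B5 C5l C5.df) (nat_lit 0) (nat_lit 3000) (nat_lit 6) = true := by decide +kernel
theorem C5_s_1 : rng (sepChk act B5 C5l C5.df) (nat_lit 3000) (nat_lit 6000) (nat_lit 6) = true := by decide +kernel
theorem C5_s_2 : rng (sepChk act B5 C5l C5.df) (nat_lit 6000) (nat_lit 9000) (nat_lit 6) = true := by decide +kernel
theorem C5_s_3 : rng (sepChk act B5 C5l C5.df) (nat_lit 9000) (nat_lit 12000) (nat_lit 6) = true := by decide +kernel
theorem C5_s_4 : rng (sepChk act B5 C5l C5.df) (nat_lit 12000) (nat_lit 15000) (nat_lit 6) = true := by decide +kernel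
theorem C5_s_5 : rng (sepChk act B5 C5l C5.df) (nat_lit 15000) (nat_lit 18000) (nat_lit 6) = true := by decide +kernel
theorem C5_s_6 : rng (sepChk act B5 C5l C5.df) (nat_lit 18000) (nat_lit 21000) (nat_lit 6) = true := by decide +kernel
theorem C5_s_7 : rng (sepChk act B5 C5l C5.df) (nat_lit 21000) (nat_lit 22275) (nat_lit 5) = true := by decide +kernel
theorem C5_s : ∀ i < C5.n, (sepChk act B5 C5l C5.df) i = true := fun i hi =>
    if h0 : i < 3000 then rng_spec C5_s_0 i (Nat.zero_le _) h0 else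
    if h1 : i < 6000 then rng_spec C5_s_1 i (Nat.le_of_not_lt h0) h1 else
    if h2 : i < 9000 then rng_spec C5_s_2 i (Nat.le_of_not_lt h1) h2 else
    if h3 : i < 12000 then rng_spec C5_s_3 i (Nat.le_of_not_lt h2) h3 else
    if h4 : i < 15000 then rng_spec C5_s_4 i (Nat.le_of_not_lt h3) h4 else
    if h5 : i < 18000 then rng_spec C5_s_5 i (Nat.le_of_not_lt h4) h5 else
    if h6 : i < 21000 then rng_spec C5_s_6 i (Nat.le_of_not_lt h5) h6 else
    rng_spec C5_s_7 i (Nat.le_of_not_lt h6) hi
theorem C5_sep : Sep C5 (nat_lit 4094) 275 act B5 := ⟨by decide +kernel, by decide +kernel, _, C5_i, C5_s⟩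
end CA.McL
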