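/-
Coset enumeration: the certificate is correct.
-/
import Cfsg.Agent.McL.D5a
import Cfsg.Agent.McL.D5b
import Cfsg.Agent.McL.D5c
import Cfsg.Agent.McL.D5d
set_option autoImplicit false
set_option maxRecDepth 100000
namespace CA.McL
open CA.TC CA.PM
theorem C5_b : ∀ i < C5.m, (C5.chkB C5p) i = true := fun i hi =>
    if h0 : i < 40 then rng_spec C5_b_0 i (Nat.zero_le _) h0 else
    if h1 : i < 80 then rng_spec C5_b_1 i (Nat.le_of_not_lt h0) h1 else
    if h2 : i < 120 then rng_spec C5_b_2 i (Nat.le_of_not_lt h1) h2 else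
    if h3 : i < 160 then rng_spec C5_b_3 i (Nat.le_of_not_lt h2) h3 else
    if h4 : i < 200 then rng_spec C5_b_4 i (Nat.le_of_not_lt h3) h4 else
    if h5 : i < 240 then rng_spec C5_b_5 i (Nat.le_of_not_lt h4) h5 else
    if h6 : i < 280 then rng_spec C5_b_6 i (Nat.le_of_not_lt h5) h6 else
    if h7 : i < 320 then rng_spec C5_b_7 i (Nat.le_of_not_lt h6) h7 else
    if h8 : i < 360 then rng_spec C5_b_8 i (Nat.le_of_not_lt h7) h8 else
    if h9 : i < 400 then rng_spec C5_b_9 i (Nat.le_of_not_lt h8) h9 else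
    if h10 : i < 440 then rng_spec C5_b_10 i (Nat.le_of_not_lt h9) h10 else
    if h11 : i < 480 then rng_spec C5_b_11 i (Nat.le_of_not_lt h10) h11 else
    if h12 : i < 520 then rng_spec C5_b_12 i (Nat.le_of_not_lt h11) h12 else
    if h13 : i < 560 then rng_spec C5_b_13 i (Nat.le_of_not_lt h12) h13 else
    if h14 : i < 600 then rng_spec C5_b_14 i (Nat.le_of_not_lt h13) h14 else
    if h15 : i < 640 then rng_spec C5_b_15 i (Nat.le_of_not_lt h14) h15 else
    if h16 : i < 680 then rng_spec C5_b_16 i (Nat.le_of_not_lt h15) h16 else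
    if h17 : i < 720 then rng_spec C5_b_17 i (Nat.le_of_not_lt h16) h17 else
    if h18 : i < 760 then rng_spec C5_b_18 i (Nat.le_of_not_lt h17) h18 else
    if h19 : i < 800 then rng_spec C5_b_19 i (Nat.le_of_not_lt h18) h19 else
    if h20 : i < 840 then rng_spec C5_b_20 i (Nat.le_of_not_lt h19) h20 else
    if h21 : i < 880 then rng_spec C5_b_21 i (Nat.le_of_not_lt h20) h21 else
    if h22 : i < 920 then rng_spec C5_b_22 i (Nat.le_of_not_lt h21) h22 else
    if h23 : i < 960 then rng_spec C5_b_23 i (Nat.le_of_not_lt h22) h23 else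
    if h24 : i < 1000 then rng_spec C5_b_24 i (Nat.le_of_not_lt h23) h24 else
    if h25 : i < 1040 then rng_spec C5_b_25 i (Nat.le_of_not_lt h24) h25 else
    if h26 : i < 1080 then rng_spec C5_b_26 i (Nat.le_of_not_lt h25) h26 else
    if h27 : i < 1120 then rng_spec C5_b_27 i (Nat.le_of_not_lt h26) h27 else
    if h28 : i < 1160 then rng_spec C5_b_28 i (Nat.le_of_not_lt h27) h28 else
    if h29 : i < 1200 then rng_spec C5_b_29 i (Nat.le_of_not_lt h28) h29 else
    if h30 : i < 1240 then rng_spec C5_b_30 i (Nat.le_of_not_lt h29) h30 else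
    if h31 : i < 1280 then rng_spec C5_b_31 i (Nat.le_of_not_lt h30) h31 else
    if h32 : i < 1320 then rng_spec C5_b_32 i (Nat.le_of_not_lt h31) h32 else
    if h33 : i < 1360 then rng_spec C5_b_33 i (Nat.le_of_not_lt h32) h33 else
    if h34 : i < 1400 then rng_spec C5_b_34 i (Nat.le_of_not_lt h33) h34 else
    if h35 : i < 1440 then rng_spec C5_b_35 i (Nat.le_of_not_lt h34) h35 else
    if h36 : i < 1480 then rng_spec C5_b_36 i (Nat.le_of_not_lt h35) h36 else
    if h37 : i < 1520 then rng_spec C5_b_37 i (Nat.le_of_not_lt h36) h37 else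
    if h38 : i < 1560 then rng_spec C5_b_38 i (Nat.le_of_not_lt h37) h38 else
    if h39 : i < 1600 then rng_spec C5_b_39 i (Nat.le_of_not_lt h38) h39 else
    if h40 : i < 1640 then rng_spec C5_b_40 i (Nat.le_of_not_lt h39) h40 else
    if h41 : i < 1680 then rng_spec C5_b_41 i (Nat.le_of_not_lt h40) h41 else
    if h42 : i < 1720 then rng_spec C5_b_42 i (Nat.le_of_not_lt h41) h42 else
    rng_spec C5_b_43 i (Nat.le_of_not_lt h42) hi
theorem C5_t : ∀ i < C5.n, (C5.chkT) i = true := fun i hi =>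
    if h0 : i < 1500 then rng_spec C5_t_0 i (Nat.zero_le _) h0 else
    if h1 : i < 3000 then rng_spec C5_t_1 i (Nat.le_of_not_lt h0) h1 else
    if h2 : i < 4500 then rng_spec C5_t_2 i (Nat.le_of_not_lt h1) h2 else
    if h3 : i < 6000 then rng_spec C5_t_3 i (Nat.le_of_not_lt h2) h3 else
    if h4 : i < 7500 then rng_spec C5_t_4 i (Nat.le_of_not_lt h3) h4 else
    if h5 : i < 9000 then rng_spec C5_t_5 i (Nat.le_of_not_lt h4) h5 else
    if h6 : i < 10500 then rng_spec C5_t_6 i (Nat.le_of_not_lt h5) h6 else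
    if h7 : i < 12000 then rng_spec C5_t_7 i (Nat.le_of_not_lt h6) h7 else
    if h8 : i < 13500 then rng_spec C5_t_8 i (Nat.le_of_not_lt h7) h8 else
    if h9 : i < 15000 then rng_spec C5_t_9 i (Nat.le_of_not_lt h8) h9 else
    if h10 : i < 16500 then rng_spec C5_t_10 i (Nat.le_of_not_lt h9) h10 else
    if h11 : i < 18000 then rng_spec C5_t_11 i (Nat.le_of_not_lt h10) h11 else
    if h12 : i < 19500 then rng_spec C5_t_12 i (Nat.le_of_not_lt h11) h12 else
    if h13 : i < 21000 then rng_spec C5_t_13 i (Nat.le_of_not_lt h12) h13 else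
    rng_spec C5_t_14 i (Nat.le_of_not_lt h13) hi
theorem C5_ok : C5.OK := ⟨by decide, by decide +kernel, by decide, by decide +kernel, by decide +kernel, ⟨_, C5_b⟩, C5_t⟩
end CA.McL
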